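import Groth.Agent.UnitNormLib.Global

/-! A unit at the places over an unramified place is a local norm. -/

set_option autoImplicit false
set_option backward.isDefEq.respectTransparency false
set_option backward.isDefEq.respectTransparency.types false

universe u

open NumberField IsDedekindDomain Module
open scoped TensorProduct

namespace Groth.Agent.UnitNormLib

attribute [local instance] FractionRing.liftAlgebra FractionRing.isScalarTower_liftAlgebra

variable {k : Type u} [Field k] [NumberField k] (v : HeightOneSpectrum (𝓞 k))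

local notation "A" => v.adicCompletion k

lemma valued_algebraMap (x : k) : Valued.v (algebraMap k A x) = v.valuation k x :=
  v.valuedAdicCompletion_eq_valuation' x

lemma exists_uniformizer :
    ∃ π : 𝓞 k, π ≠ 0 ∧ π ∈ v.asIdeal ∧ ∀ n : ℕ, ∀ r ∈ v.asIdeal ^ n,
      Valued.v (algebraMap k A (algebraMap (𝓞 k) k r)) ≤ Valued.v (algebraMap k A (algebraMap (𝓞 k) k π) ^ n) := by
  obtain ⟨π, hπ⟩ := v.intValuation_exists_uniformizer
  have h0 : π ≠ 0 := fun h => by rw [h, map_zero] at hπ; exact WithZero.exp_ne_zero hπ.symm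
  refine ⟨π, h0, ?_, fun n r hr => ?_⟩
  · rw [← v.intValuation_lt_one_iff_mem, hπ]
    exact WithZero.exp_lt_exp.mpr (by norm_num)
  · rw [map_pow, valued_algebraMap, valued_algebraMap,
      HeightOneSpectrum.valuation_of_algebraMap, HeightOneSpectrum.valuation_of_algebraMap, hπ, ← WithZero.exp_nsmul]
    refine ((v.intValuation_le_pow_iff_mem r n).mpr hr).trans (le_of_eq ?_)
    congr 1
    simp

lemma isCompact_ball : IsCompact {x : A | Valued.v x ≤ 1} := by
  refine TotallyBounded.isCompact_of_isClosed ?_ (Valued.isClosed_integer (R := A))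
  obtain ⟨π, hπ0, hπv, hπ⟩ := exists_uniformizer v
  let p : A := algebraMap k A (algebraMap (𝓞 k) k π)
  have hp0 : p ≠ 0 := (map_ne_zero _).mpr ((map_ne_zero_iff _ (IsFractionRing.injective (𝓞 k) k)).mpr hπ0)
  have hp1 : Valued.v p < 1 := by
    rw [valued_algebraMap, HeightOneSpectrum.valuation_of_algebraMap]
    exact (v.intValuation_lt_one_iff_mem π).mpr hπv
  rw [(Valued.hasBasis_uniformity A (WithZero (Multiplicative ℤ))).totallyBounded_iff]
  intro γ _
  obtain ⟨n, hn⟩ := ((Valued.tendsto_zero_pow_of_v_lt_one hp1).eventually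
    (Valued.mem_nhds_zero.mpr ⟨γ, subset_rfl⟩)).exists
  haveI : Finite (𝓞 k ⧸ v.asIdeal ^ n) := Ideal.finiteQuotientOfFreeOfNeBot _ (pow_ne_zero _ v.ne_bot)
  refine ⟨Set.range fun q : 𝓞 k ⧸ v.asIdeal ^ n => algebraMap k A (algebraMap (𝓞 k) k (Quotient.out q)),
    Set.finite_range _, fun x hx => ?_⟩
  have hγn : Valued.v.restrict (p ^ n) ≠ 0 := (Valuation.ne_zero_iff _).mpr (pow_ne_zero _ hp0)
  obtain ⟨q, hq⟩ := (HeightOneSpectrum.denseRange_algebraMap (K := k) v).exists_mem_open
    (s := interior {y : A | Valued.v.restrict (y - x) < (Units.mk0 _ hγn).1}) isOpen_interior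
    ⟨x, mem_interior_iff_mem_nhds.mpr (Valued.mem_nhds.mpr ⟨_, subset_rfl⟩)⟩
  have hq1 : Valued.v (algebraMap k A q - x) < Valued.v (p ^ n) := by
    have := interior_subset hq
    exact (Valuation.restrict_lt_iff _).mp this
  have hpn : Valued.v (p ^ n) ≤ 1 := by rw [map_pow]; exact pow_le_one₀ zero_le hp1.le
  have hqv : v.valuation k q ≤ 1 := by
    rw [← valued_algebraMap]
    rw [show algebraMap k A q = (algebraMap k A q - x) + x by ring]
    exact (Valuation.map_add _ _ _).trans (max_le (hq1.le.trans hpn) hx)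
  have hne : Valued.v (p ^ n) ≠ 0 := (Valuation.ne_zero_iff _).mpr (pow_ne_zero _ hp0)
  obtain ⟨a, ha⟩ := v.exists_valuation_sub_lt_of_integer hqv (Units.mk0 _ hne)
  have hr : Valued.v (algebraMap k A (algebraMap (𝓞 k) k a) - algebraMap k A (algebraMap (𝓞 k) k
      (Quotient.out (Ideal.Quotient.mk (v.asIdeal ^ n) a)))) ≤ Valued.v (p ^ n) := by
    rw [← map_sub, ← map_sub]
    refine hπ n _ (Ideal.Quotient.eq.mp ?_)
    exact (Ideal.Quotient.mk_out _).symm
  refine Set.mem_iUnion₂.mpr ⟨_, ⟨Ideal.Quotient.mk (v.asIdeal ^ n) a, rfl⟩, ?_⟩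
  refine lt_of_le_of_lt ?_ hn
  rw [Valuation.restrict_le_iff]
  show Valued.v (algebraMap k A (algebraMap (𝓞 k) k (Quotient.out (Ideal.Quotient.mk (v.asIdeal ^ n) a))) - x) ≤ _
  have ha' : Valued.v (algebraMap k A (algebraMap (𝓞 k) k a) - algebraMap k A q) ≤ Valued.v (p ^ n) := by
    rw [← map_sub, valued_algebraMap]; exact ha.le
  rw [show algebraMap k A (algebraMap (𝓞 k) k (Quotient.out (Ideal.Quotient.mk (v.asIdeal ^ n) a))) - x =
    ((algebraMap k A (algebraMap (𝓞 k) k a) - algebraMap k A q) + (algebraMap k A q - x)) -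
      (algebraMap k A (algebraMap (𝓞 k) k a) - algebraMap k A (algebraMap (𝓞 k) k (Quotient.out (Ideal.Quotient.mk (v.asIdeal ^ n) a)))) by ring]
  exact (Valuation.map_sub _ _ _).trans (max_le ((Valuation.map_add _ _ _).trans (max_le ha' hq1.le)) hr)

lemma exists_intValuation_eq {R : Type*} [CommRing R] [IsDedekindDomain R] (v : HeightOneSpectrum R) (x : R) (hx : x ≠ 0) :
    ∃ n : ℕ, v.intValuation x = WithZero.exp (-(n : ℤ)) :=
  ⟨_, HeightOneSpectrum.intValuation_if_neg v hx⟩

variable {K L : Type u} [Field K] [NumberField K] [Field L] [NumberField L]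
  [Algebra k K] [Algebra K L] [Algebra k L] [IsScalarTower k K L]

/-- Integrality at `v`. -/
lemma exists_mul_mem (d : K)
    (hd : ∀ W : HeightOneSpectrum (𝓞 K), W.asIdeal.LiesOver v.asIdeal → W.valuation K d ≤ 1) :
    ∃ s : 𝓞 k, s ∉ v.asIdeal ∧ ∃ c : 𝓞 K, algebraMap (𝓞 k) K s * d = (c : K) := by
  let J : Ideal (𝓞 K) :=
    { carrier := {a | ∃ c : 𝓞 K, (a : K) * d = (c : K)}
      add_mem' := by rintro a b ⟨c, hc⟩ ⟨e, he⟩; exact ⟨c + e, by push_cast; rw [add_mul, hc, he]⟩
      zero_mem' := ⟨0, by simp⟩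
      smul_mem' := by rintro r a ⟨c, hc⟩; exact ⟨r * c, by push_cast [smul_eq_mul]; rw [mul_assoc, hc]⟩ }
  by_contra hcon
  have hle : J.comap (algebraMap (𝓞 k) (𝓞 K)) ≤ v.asIdeal := by
    rintro s ⟨c, hc⟩
    by_contra hs
    exact hcon ⟨s, hs, c, hc⟩
  obtain ⟨Q, hJQ, hQp, hQ⟩ := Ideal.exists_ideal_over_prime_of_isIntegral v.asIdeal J hle
  haveI : Q.LiesOver v.asIdeal := ⟨hQ.symm⟩
  let W : HeightOneSpectrum (𝓞 K) := ⟨Q, hQp, Ideal.ne_bot_of_liesOver_of_ne_bot v.ne_bot Q⟩
  obtain ⟨c, ⟨s, hs⟩, hsd⟩ := W.exists_primeCompl_mul_eq_of_integer d (hd W inferInstance)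
  exact hs (hJQ ⟨c, by rw [mul_comm]; exact hsd⟩)

local notation "TK" => (A ⊗[k] K)
local notation "TL" => (A ⊗[k] L)

/-- Units at the places over an unramified place are local norms. -/
theorem exists_norm_eq (u : K)
    (hu : ∀ W : HeightOneSpectrum (𝓞 K), W.asIdeal.LiesOver v.asIdeal → W.valuation K u = 1)
    (hunr : ∀ Q : Ideal (𝓞 L), Q.IsPrime → Q ≠ ⊥ → Q.LiesOver v.asIdeal → Q.ramificationIdx (𝓞 K) = 1) :
    letI := (Algebra.TensorProduct.map (AlgHom.id k A) (IsScalarTower.toAlgHom k K L)).toRingHom.toAlgebra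
    ∃ x : TL, IsUnit x ∧ Algebra.norm TK x = (1 : A) ⊗ₜ[k] u := by
  classical
  letI := (Algebra.TensorProduct.map (AlgHom.id k A) (IsScalarTower.toAlgHom k K L)).toRingHom.toAlgebra
  have hmap : ∀ (a : A) (c : K), algebraMap TK TL (a ⊗ₜ[k] c) = a ⊗ₜ[k] algebraMap K L c := fun a c => rfl
  haveI : IsScalarTower A TK TL := .of_algebraMap_eq fun a => by
    simp [Algebra.TensorProduct.algebraMap_apply, hmap]
  haveI : FiniteDimensional k K := Module.Finite.of_restrictScalars_finite ℚ k K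
  haveI : FiniteDimensional K L := Module.Finite.of_restrictScalars_finite ℚ K L
  -- a basis
  let f := Module.finBasis k K
  let e := Module.finBasis K L
  let Φ : (Fin (Module.finrank K L) → TK) →ₗ[TK] TL := Fintype.linearCombination TK fun j => (1 : A) ⊗ₜ[k] e j
  let bsrc := Pi.basis fun _ : Fin (Module.finrank K L) => Algebra.TensorProduct.basis A f
  let btgt := (Algebra.TensorProduct.basis A (f.smulTower e)).reindex ((Equiv.prodComm _ _).trans (Equiv.sigmaEquivProd _ _).symm)
  have hΦ : Φ.restrictScalars A = (bsrc.equiv btgt (Equiv.refl _)).toLinearMap := by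
    refine bsrc.ext fun ⟨j, i⟩ => ?_
    rw [LinearEquiv.coe_coe, Module.Basis.equiv_apply]
    simp [Φ, bsrc, btgt, Fintype.linearCombination_apply_single, Algebra.smul_def, hmap]
  have hbij : Function.Bijective Φ := by
    have : Function.Bijective (Φ.restrictScalars A) := hΦ ▸ (bsrc.equiv btgt (Equiv.refl _)).bijective
    exact this
  let b : Module.Basis (Fin (Module.finrank K L)) TK TL := Module.Basis.ofEquivFun (LinearEquiv.ofBijective Φ hbij).symm
  have hb : ∀ j, b j = (1 : A) ⊗ₜ[k] e j := fun j => by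
    rw [Module.Basis.coe_ofEquivFun]
    simp [Φ, Fintype.linearCombination_apply_single]
  have hrepr : ∀ (z : L) j, b.repr ((1 : A) ⊗ₜ[k] z) j = (1 : A) ⊗ₜ[k] e.repr z j := by
    intro z j
    have h1 : (1 : A) ⊗ₜ[k] z = ∑ i, ((1 : A) ⊗ₜ[k] e.repr z i : TK) • b i := by
      conv_lhs => rw [← e.sum_repr z, TensorProduct.tmul_sum]
      refine Finset.sum_congr rfl fun i _ => ?_
      rw [hb, Algebra.smul_def, Algebra.smul_def, hmap, Algebra.TensorProduct.tmul_mul_tmul, one_mul]
    rw [h1, b.repr_sum_self]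
  have hnorm : ∀ z : L, Algebra.norm TK ((1 : A) ⊗ₜ[k] z) = (1 : A) ⊗ₜ[k] Algebra.norm K z := by
    intro z
    rw [Algebra.norm_eq_matrix_det b, Algebra.norm_eq_matrix_det e,
      show (1 : A) ⊗ₜ[k] (Algebra.leftMulMatrix e z).det =
        (Algebra.TensorProduct.includeRight : K →ₐ[k] TK).toRingHom (Algebra.leftMulMatrix e z).det from rfl,
      RingHom.map_det]
    congr 1
    ext i j
    rw [Algebra.leftMulMatrix_eq_repr_mul, hb, Algebra.TensorProduct.tmul_mul_tmul, one_mul, hrepr,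
      RingHom.mapMatrix_apply, Matrix.map_apply, Algebra.leftMulMatrix_eq_repr_mul]
    rfl
  -- topology
  letI : TopologicalSpace TK := moduleTopology A TK
  haveI : IsModuleTopology A TK := ⟨rfl⟩
  letI : TopologicalSpace TL := moduleTopology A TL
  haveI : IsModuleTopology A TL := ⟨rfl⟩
  haveI : Module.Finite A TK := Module.Finite.base_change k A K
  haveI : IsTopologicalRing TK := IsModuleTopology.isTopologicalRing A TK
  haveI : ContinuousAdd TL := IsModuleTopology.toContinuousAdd A TL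
  haveI : T2Space TK := by
    let E := (Algebra.TensorProduct.basis A f).equivFun
    exact T2Space.of_injective_continuous E.injective (IsModuleTopology.continuous_of_linearMap E.toLinearMap)
  have hcont : Continuous fun x : TL => Algebra.norm TK x := by
    simp only [Algebra.norm_eq_matrix_det b]
    refine Continuous.matrix_det (continuous_matrix fun i j => ?_)
    simp only [Algebra.leftMulMatrix_eq_repr_mul]
    exact IsModuleTopology.continuous_of_linearMap
      ((((b.coord i).comp (LinearMap.mulRight TK (b j)))).restrictScalars A)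
  -- integral structures
  obtain ⟨mK, eK, heK⟩ := Module.Finite.exists_fin (R := 𝓞 k) (M := 𝓞 K)
  obtain ⟨mL, eL, heL⟩ := Module.Finite.exists_fin (R := 𝓞 k) (M := 𝓞 L)
  let φK : (Fin mK → A) →ₗ[A] TK := Fintype.linearCombination A fun j => (1 : A) ⊗ₜ[k] (eK j : K)
  let φL : (Fin mL → A) →ₗ[A] TL := Fintype.linearCombination A fun j => (1 : A) ⊗ₜ[k] (eL j : L)
  let ball : Set A := {x | Valued.v x ≤ (1 : WithZero (Multiplicative ℤ))}
  have hball : ∀ r : 𝓞 k, algebraMap k A (algebraMap (𝓞 k) k r) ∈ ball := fun r => by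
    show Valued.v (algebraMap k A (algebraMap (𝓞 k) k r)) ≤ (1 : WithZero (Multiplicative ℤ))
    rw [valued_algebraMap]
    exact v.valuation_le_one r
  let C : Set TL := φL '' Set.univ.pi fun _ => ball
  have hC : IsCompact C :=
    (isCompact_univ_pi fun _ => isCompact_ball v).image (IsModuleTopology.continuous_of_linearMap φL)
  have hCL : ∀ y : 𝓞 L, (1 : A) ⊗ₜ[k] (y : L) ∈ C := fun y => by
    obtain ⟨r, hr⟩ := (Submodule.mem_span_range_iff_exists_fun _).mp (heL ▸ Submodule.mem_top : y ∈ _)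
    refine ⟨fun j => algebraMap k A (algebraMap (𝓞 k) k (r j)), fun j _ => hball (r j), ?_⟩
    rw [← hr]
    push_cast
    simp only [φL, Fintype.linearCombination_apply, TensorProduct.tmul_sum]
    refine Finset.sum_congr rfl fun j _ => ?_
    rw [TensorProduct.smul_tmul', smul_eq_mul, mul_one, Algebra.algebraMap_eq_smul_one,
      TensorProduct.smul_tmul, algebra_compatible_smul k (r j) (eL j : L)]
  -- approximations
  obtain ⟨π, hπ0, hπv, hπ⟩ := exists_uniformizer v
  let ι := {W : HeightOneSpectrum (𝓞 K) // W.asIdeal.LiesOver v.asIdeal}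
  have hfin : Finite ι := by
    refine Set.Finite.to_subtype ((Ideal.finite_factors (I := v.asIdeal.map (algebraMap (𝓞 k) (𝓞 K)))
      (Ideal.map_ne_bot_of_ne_bot v.ne_bot)).subset fun W hW => ?_)
    haveI : W.asIdeal.LiesOver v.asIdeal := hW
    exact Ideal.dvd_iff_le.mpr (Ideal.map_le_iff_le_comap.mpr (Ideal.over_def W.asIdeal v.asIdeal).le)
  obtain ⟨s₀, hs₀, a, ha⟩ := exists_mul_mem v u fun W hW => (hu W hW).le
  have hstep : ∀ N : ℕ, ∃ y : 𝓞 L, ∃ q : Fin mK → A, (∀ j, Valued.v (q j) ≤ 1) ∧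
      Algebra.norm TK ((1 : A) ⊗ₜ[k] (y : L)) - (1 : A) ⊗ₜ[k] u =
        φK ((algebraMap k A (algebraMap (𝓞 k) k π)) ^ N • q) := by
    intro N
    obtain ⟨i, hi⟩ : ∃ i : 𝓞 k, s₀ * i - 1 ∈ v.asIdeal ^ N := by
      have hco : IsCoprime (Ideal.span {s₀}) (v.asIdeal ^ N) := by
        refine IsCoprime.pow_right (Ideal.isCoprime_iff_sup_eq.mpr ?_)
        exact v.isMaximal.1.2 _ (SetLike.lt_iff_le_and_exists.mpr ⟨le_sup_right, s₀,
          Ideal.mem_sup_left (Ideal.mem_span_singleton_self _), hs₀⟩)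
      obtain ⟨x, hx, z, hz, hxz⟩ := Ideal.isCoprime_iff_exists.mp hco
      obtain ⟨i, rfl⟩ := Ideal.mem_span_singleton'.mp hx
      exact ⟨i, by rw [show s₀ * i - 1 = -z by linear_combination hxz]; exact neg_mem hz⟩
    let a₀ : 𝓞 K := a * algebraMap (𝓞 k) (𝓞 K) i
    have hval : ∀ (W : ι) (r : 𝓞 k), r ∉ v.asIdeal → W.1.valuation K (algebraMap (𝓞 k) K r) = 1 := fun W r hr => by
      haveI := W.2
      rw [IsScalarTower.algebraMap_apply (𝓞 k) k K, ← HeightOneSpectrum.valuation_liesOver K v W.1,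
        v.valuation_eq_one_iff_notMem.mpr hr, one_pow]
    have hsmall : ∀ (W : ι) (r : 𝓞 k), r ∈ v.asIdeal ^ N →
        W.1.valuation K (algebraMap (𝓞 k) K r) ≤ W.1.valuation K (algebraMap (𝓞 k) K π) ^ N := fun W r hr => by
      haveI := W.2
      rw [IsScalarTower.algebraMap_apply (𝓞 k) k K, IsScalarTower.algebraMap_apply (𝓞 k) k K,
        ← HeightOneSpectrum.valuation_liesOver K v W.1, ← HeightOneSpectrum.valuation_liesOver K v W.1, ← pow_mul,
        mul_comm, pow_mul]
      refine pow_le_pow_left₀ zero_le ?_ _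
      have := hπ N r hr
      rwa [map_pow, valued_algebraMap,
        valued_algebraMap] at this
    have ha₀ : ∀ W : ι, a₀ ∉ W.1.asIdeal ∨ N = 0 := by
      intro W
      rcases Nat.eq_zero_or_pos N with h | hN
      · exact Or.inr h
      refine Or.inl (W.1.valuation_eq_one_iff_notMem (K := K) |>.mp ?_)
      have hi0 : i ∉ v.asIdeal := fun h => v.isPrime.ne_top ((Ideal.eq_top_iff_one _).mpr (by
        have := v.asIdeal.sub_mem (v.asIdeal.mul_mem_left s₀ h) (Ideal.pow_le_self hN.ne' hi)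
        rwa [sub_sub_cancel] at this))
      show W.1.valuation K ((a₀ : 𝓞 K) : K) = 1
      rw [show ((a₀ : 𝓞 K) : K) = algebraMap (𝓞 k) K s₀ * u * algebraMap (𝓞 k) K i by rw [ha]; rfl,
        map_mul, map_mul, hval W s₀ hs₀, hval W i hi0, hu W.1 W.2, one_mul, one_mul]
    choose M hM using fun W : ι => exists_intValuation_eq W.1 ((algebraMap (𝓞 k) (𝓞 K) π) ^ N)
      (pow_ne_zero _ ((map_ne_zero_iff _ (FaithfulSMul.algebraMap_injective (𝓞 k) (𝓞 K))).mpr hπ0))
    obtain ⟨y, hy⟩ : ∃ y : 𝓞 L, ∀ W : ι, Algebra.intNorm (𝓞 K) (𝓞 L) y - a₀ ∈ W.1.asIdeal ^ M W := by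
      rcases Nat.eq_zero_or_pos N with rfl | hN
      · exact ⟨1, fun W => by
          rw [show M W = 0 from by simpa using (hM W).symm]
          simp⟩
      haveI : ∀ W : ι, W.1.asIdeal.IsMaximal := fun W => W.1.isMaximal
      haveI : ∀ W : ι, Finite (𝓞 K ⧸ W.1.asIdeal) := fun W => Ideal.finiteQuotientOfFreeOfNeBot _ W.1.ne_bot
      refine exists_norm_sub_mem_finset (fun W : ι => W.1.asIdeal)
        (fun W W' h => Subtype.ext (HeightOneSpectrum.ext h)) (fun W => W.1.ne_bot) (fun W Q hQ hQ0 hQW => ?_)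
        a₀ (fun W => (ha₀ W).resolve_right hN.ne') M
      haveI := W.2
      haveI : Q.LiesOver W.1.asIdeal := hQW
      exact hunr Q hQ hQ0 (Ideal.LiesOver.trans Q W.1.asIdeal v.asIdeal)
    let p : K := algebraMap (𝓞 k) K π ^ N
    have hp : p ≠ 0 := pow_ne_zero _ ((map_ne_zero_iff _ (FaithfulSMul.algebraMap_injective (𝓞 k) K)).mpr hπ0)
    obtain ⟨s, hs, c, hc⟩ := exists_mul_mem v ((Algebra.norm K (y : L) - u) / p) fun W hW => by
      rw [map_div₀, div_le_one₀ (zero_lt_iff.mpr ((Valuation.ne_zero_iff _).mpr hp)),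
        show Algebra.norm K (y : L) - u = ((Algebra.intNorm (𝓞 K) (𝓞 L) y - a₀ : 𝓞 K) : K) +
          (((a₀ : 𝓞 K) : K) - u) by rw [show ((Algebra.intNorm (𝓞 K) (𝓞 L) y - a₀ : 𝓞 K) : K) = algebraMap (𝓞 K) K (Algebra.intNorm (𝓞 K) (𝓞 L) y - a₀) from rfl, map_sub, Algebra.algebraMap_intNorm (L := L)]; show _ = _ + (algebraMap (𝓞 K) K a₀ - u); ring]
      refine (Valuation.map_add _ _ _).trans (max_le ?_ ?_)
      · rw [HeightOneSpectrum.valuation_of_algebraMap]
        refine ((W.intValuation_le_pow_iff_mem _ (M ⟨W, hW⟩)).mpr (hy ⟨W, hW⟩)).trans ?_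
        rw [← hM ⟨W, hW⟩, ← HeightOneSpectrum.valuation_of_algebraMap (K := K)]
        show W.valuation K (algebraMap (𝓞 K) K (algebraMap (𝓞 k) (𝓞 K) π ^ N)) ≤ _
        rw [map_pow, map_pow, ← IsScalarTower.algebraMap_apply]
        simp only [p, map_pow, le_refl]
      · have h1 : ((a₀ : 𝓞 K) : K) - u = u * algebraMap (𝓞 k) K (s₀ * i - 1) := by
          rw [map_sub, map_mul, map_one, show ((a₀ : 𝓞 K) : K) = algebraMap (𝓞 k) K s₀ * u * algebraMap (𝓞 k) K i by rw [ha]; rfl]
          ring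
        rw [h1, map_mul, hu W hW, one_mul, map_pow]
        exact hsmall ⟨W, hW⟩ _ hi
    obtain ⟨r, hr⟩ := (Submodule.mem_span_range_iff_exists_fun _).mp (heK ▸ Submodule.mem_top : c ∈ _)
    refine ⟨y, fun j => algebraMap k A (algebraMap (𝓞 k) k (r j) / algebraMap (𝓞 k) k s), fun j => ?_, ?_⟩
    · rw [valued_algebraMap, map_div₀, v.valuation_eq_one_iff_notMem.mpr hs, div_one]
      exact v.valuation_le_one _
    · have hs0 : algebraMap (𝓞 k) k s ≠ 0 := (map_ne_zero_iff _ (IsFractionRing.injective (𝓞 k) k)).mpr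
        fun h => hs (h ▸ v.asIdeal.zero_mem)
      have hd : Algebra.norm K (y : L) - u =
          ∑ j, ((algebraMap (𝓞 k) k π) ^ N * (algebraMap (𝓞 k) k (r j) / algebraMap (𝓞 k) k s)) • (eK j : K) := by
        have h2 : (c : K) = ∑ j, algebraMap (𝓞 k) k (r j) • (eK j : K) := by
          rw [← hr]; push_cast
          exact Finset.sum_congr rfl fun j _ => algebra_compatible_smul k (r j) (eK j : K)
        have h3 : Algebra.norm K (y : L) - u = ((algebraMap (𝓞 k) k π) ^ N / algebraMap (𝓞 k) k s) • (c : K) := by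
          rw [← hc, Algebra.smul_def, map_div₀, map_pow, ← IsScalarTower.algebraMap_apply,
            ← IsScalarTower.algebraMap_apply]
          have : algebraMap (𝓞 k) K s ≠ 0 := by
            rw [IsScalarTower.algebraMap_apply (𝓞 k) k K]; exact (map_ne_zero _).mpr hs0
          show _ = p / _ * _
          field_simp
        rw [h3, h2, Finset.smul_sum]
        exact Finset.sum_congr rfl fun j _ => by rw [smul_smul]; congr 1; ring
      rw [hnorm, ← TensorProduct.tmul_sub, hd, TensorProduct.tmul_sum]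
      simp only [φK, Fintype.linearCombination_apply, Pi.smul_apply, smul_eq_mul]
      refine Finset.sum_congr rfl fun j _ => ?_
      rw [TensorProduct.smul_tmul', smul_eq_mul, mul_one, ← map_pow (algebraMap k A), ← map_mul (algebraMap k A),
        Algebra.algebraMap_eq_smul_one (R := k), TensorProduct.smul_tmul]
  choose y q hq hyq using hstep
  -- the limit
  have hlim : Filter.Tendsto (fun N => Algebra.norm TK ((1 : A) ⊗ₜ[k] (y N : L))) Filter.atTop
      (nhds ((1 : A) ⊗ₜ[k] u)) := by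
    have hp1 : Valued.v (algebraMap k A (algebraMap (𝓞 k) k π)) < 1 := by
      rw [valued_algebraMap, HeightOneSpectrum.valuation_of_algebraMap]
      exact (v.intValuation_lt_one_iff_mem π).mpr hπv
    have hq0 : Filter.Tendsto (fun N => (algebraMap k A (algebraMap (𝓞 k) k π)) ^ N • q N) Filter.atTop (nhds 0) := by
      refine tendsto_pi_nhds.mpr fun j => ?_
      intro U hU
      obtain ⟨γ, hγ⟩ := Valued.mem_nhds_zero.mp hU
      have hev := (Valued.tendsto_zero_pow_of_v_lt_one hp1).eventually (Valued.mem_nhds_zero.mpr ⟨γ, subset_rfl⟩)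
      rw [Filter.mem_map]
      refine Filter.mem_of_superset hev fun N hN => hγ ?_
      refine lt_of_le_of_lt (b := Valued.v.restrict (algebraMap k A (algebraMap (𝓞 k) k π) ^ N)) ?_ hN
      simp only [Pi.smul_apply, smul_eq_mul, map_mul]
      refine mul_le_of_le_one_right' ?_
      rw [Valuation.restrict_le_one_iff]
      exact hq N j
    have h := ((IsModuleTopology.continuous_of_linearMap φK).tendsto 0).comp hq0
    rw [map_zero] at h
    have h' := h.add_const ((1 : A) ⊗ₜ[k] u)
    rw [zero_add] at h'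
    refine h'.congr fun N => ?_
    show φK _ + _ = _
    rw [← hyq N, sub_add_cancel]
  obtain ⟨x, -, hx : Algebra.norm TK x = (1 : A) ⊗ₜ[k] u⟩ := (hC.image hcont).isClosed.mem_of_tendsto hlim
    (Filter.Eventually.of_forall fun N => ⟨_, hCL (y N), rfl⟩)
  refine ⟨x, ?_, hx⟩
  have hu0 : u ≠ 0 := by
    intro h
    obtain ⟨Q, hQ, hQo⟩ := Ideal.exists_maximal_ideal_liesOver_of_isIntegral (S := 𝓞 K) v.asIdeal
    have := hu ⟨Q, hQ.isPrime, Ideal.ne_bot_of_liesOver_of_ne_bot v.ne_bot Q⟩ hQo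
    simp [h] at this
  have hunit : IsUnit (Algebra.norm TK x) := by
    have := hu0.isUnit.map (Algebra.TensorProduct.includeRight : K →ₐ[k] TK)
    rw [hx]
    exact this
  rw [Algebra.norm_eq_matrix_det b, ← Matrix.isUnit_iff_isUnit_det, Algebra.leftMulMatrix_apply] at hunit
  have hbij' : Function.Bijective (Algebra.lmul TK TL x) := by
    rw [← Module.End.isUnit_iff]
    exact (isUnit_map_iff (LinearMap.toMatrixAlgEquiv b) _).mp hunit
  obtain ⟨z, hz⟩ := hbij'.2 1
  exact IsUnit.of_mul_eq_one z hz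

end Groth.Agent.UnitNormLib
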