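import Groth.Agent.UnitNormLib.Quot

/-! Units modulo powers of an unramified prime are norms. -/

set_option autoImplicit false
set_option backward.isDefEq.respectTransparency false
set_option backward.isDefEq.respectTransparency.types false

open Module

namespace Groth.Agent.UnitNormLib

attribute [local instance] Ideal.Quotient.field FractionRing.liftAlgebra FractionRing.isScalarTower_liftAlgebra

lemma prod_one_add_mul {E ι : Type*} [CommRing E] (A : Subring E) (s : Finset ι) (f : ι → E) (p : E)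
    (hp : p ∈ A) (hf : ∀ i ∈ s, f i ∈ A) :
    ∃ r ∈ A, ∏ i ∈ s, (1 + p * f i) = 1 + p * ∑ i ∈ s, f i + p ^ 2 * r := by
  classical
  induction s using Finset.induction_on with
  | empty => exact ⟨0, A.zero_mem, by simp⟩
  | insert a s ha ih =>
    obtain ⟨r, hr, h⟩ := ih fun i hi => hf i (Finset.mem_insert_of_mem hi)
    have hfa := hf a (Finset.mem_insert_self a s)
    have hsum : ∑ i ∈ s, f i ∈ A := A.sum_mem fun i hi => hf i (Finset.mem_insert_of_mem hi)
    refine ⟨r + f a * ∑ i ∈ s, f i + p * f a * r,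
      A.add_mem (A.add_mem hr (A.mul_mem hfa hsum)) (A.mul_mem (A.mul_mem hp hfa) hr), ?_⟩
    rw [Finset.prod_insert ha, Finset.sum_insert ha, h]
    ring

variable {R S : Type*} [CommRing R] [CommRing S] [Algebra R S] [IsDedekindDomain R] [IsDedekindDomain S]
  [Module.IsTorsionFree R S] [Module.Finite R S] [FiniteDimensional (FractionRing R) (FractionRing S)]
  [Algebra.IsSeparable (FractionRing R) (FractionRing S)]

lemma prod_add_mul {E ι : Type*} [CommRing E] (A : Subring E) (s : Finset ι) (f g : ι → E) (p : E)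
    (hp : p ∈ A) (hf : ∀ i ∈ s, f i ∈ A) (hg : ∀ i ∈ s, g i ∈ A) :
    ∃ r ∈ A, ∏ i ∈ s, (f i + p * g i) = ∏ i ∈ s, f i + p * r := by
  classical
  induction s using Finset.induction_on with
  | empty => exact ⟨0, A.zero_mem, by simp⟩
  | insert a s ha ih =>
    obtain ⟨r, hr, h⟩ := ih (fun i hi => hf i (Finset.mem_insert_of_mem hi)) (fun i hi => hg i (Finset.mem_insert_of_mem hi))
    have hfa := hf a (Finset.mem_insert_self a s)
    have hga := hg a (Finset.mem_insert_self a s)
    have hpr : ∏ i ∈ s, f i ∈ A := A.prod_mem fun i hi => hf i (Finset.mem_insert_of_mem hi)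
    refine ⟨f a * r + g a * ∏ i ∈ s, f i + p * g a * r,
      A.add_mem (A.add_mem (A.mul_mem hfa hr) (A.mul_mem hga hpr)) (A.mul_mem (A.mul_mem hp hga) hr), ?_⟩
    rw [Finset.prod_insert ha, Finset.prod_insert ha, h]
    ring

theorem intNorm_add_mul {p : R} (hp : p ≠ 0) (x c : S) :
    ∃ r : R, Algebra.intNorm R S (x + algebraMap R S p * c) = Algebra.intNorm R S x + p * r := by
  classical
  let K := FractionRing R
  let L := FractionRing S
  let E := AlgebraicClosure K
  have hint : ∀ y : S, ∀ σ : L →ₐ[K] E, σ (algebraMap S L y) ∈ (integralClosure R E).toSubring := fun y σ => by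
    have h1 : IsIntegral R y := Algebra.IsIntegral.isIntegral y
    exact (h1.algebraMap (B := L)).map (σ.restrictScalars R)
  obtain ⟨r, hr, hprod⟩ := prod_add_mul (integralClosure R E).toSubring Finset.univ
    (fun σ : L →ₐ[K] E => σ (algebraMap S L x)) (fun σ : L →ₐ[K] E => σ (algebraMap S L c)) (algebraMap R E p)
    ((integralClosure R E).algebraMap_mem p) (fun σ _ => hint x σ) (fun σ _ => hint c σ)
  have hx : algebraMap R E (Algebra.intNorm R S x) = ∏ σ : L →ₐ[K] E, σ (algebraMap S L x) := by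
    rw [IsScalarTower.algebraMap_apply R K E, Algebra.algebraMap_intNorm_fractionRing, Algebra.norm_eq_prod_embeddings]
  have hN : algebraMap R E (Algebra.intNorm R S (x + algebraMap R S p * c)) =
      ∏ σ : L →ₐ[K] E, (σ (algebraMap S L x) + algebraMap R E p * σ (algebraMap S L c)) := by
    rw [IsScalarTower.algebraMap_apply R K E, Algebra.algebraMap_intNorm_fractionRing, Algebra.norm_eq_prod_embeddings]
    refine Finset.prod_congr rfl fun σ _ => ?_
    rw [map_add, map_mul, map_add, map_mul, ← IsScalarTower.algebraMap_apply R S L,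
      IsScalarTower.algebraMap_apply R K L, AlgHom.commutes, ← IsScalarTower.algebraMap_apply R K E]
  let q : K := (algebraMap R K (Algebra.intNorm R S (x + algebraMap R S p * c)) - algebraMap R K (Algebra.intNorm R S x)) /
    algebraMap R K p
  have hpK : algebraMap R K p ≠ 0 := (map_ne_zero_iff _ (IsFractionRing.injective R K)).mpr hp
  have hq : algebraMap K E q = r := by
    have hpE : algebraMap R E p ≠ 0 := by
      rw [IsScalarTower.algebraMap_apply R K E]; exact (map_ne_zero _).mpr hpK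
    simp only [q, map_div₀, map_sub, ← IsScalarTower.algebraMap_apply R K E]
    rw [hN, hprod, hx, div_eq_iff hpE]
    ring
  have hqi : IsIntegral R q := by
    rw [← isIntegral_algebraMap_iff (FaithfulSMul.algebraMap_injective K E), hq]
    exact hr
  obtain ⟨r₀, hr₀⟩ := IsIntegrallyClosed.isIntegral_iff.mp hqi
  refine ⟨r₀, IsFractionRing.injective R K ?_⟩
  conv_rhs => rw [map_add, map_mul, hr₀]
  simp only [q]
  rw [mul_div_cancel₀ _ hpK]
  ring

/-- Congruent elements have congruent norms. -/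
theorem intNorm_sub_mem (W : Ideal R) [W.IsMaximal] (hW : W ≠ ⊥) (m : ℕ) {x y : S}
    (h : x - y ∈ (W ^ m).map (algebraMap R S)) : Algebra.intNorm R S x - Algebra.intNorm R S y ∈ W ^ m := by
  rcases Nat.eq_zero_or_pos m with rfl | hm
  · simp
  obtain ⟨p, hp, hp'⟩ := SetLike.exists_of_lt (Ideal.pow_succ_lt_pow hW m)
  have hp0 : p ≠ 0 := fun h => hp' (h ▸ Submodule.zero_mem _)
  obtain ⟨J, hJ⟩ : W ^ m ∣ Ideal.span {p} := Ideal.dvd_iff_le.mpr ((Ideal.span_singleton_le_iff_mem _).mpr hp)
  have hJW : ¬ J ≤ W := fun hle => hp' (by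
    rw [← Ideal.span_singleton_le_iff_mem, hJ, pow_succ]; exact Ideal.mul_mono_right hle)
  obtain ⟨s, hsJ, hsW⟩ := SetLike.not_le_iff_exists.mp hJW
  have hmem : algebraMap R S s * (x - y) ∈ (Ideal.span {p}).map (algebraMap R S) := by
    rw [hJ, Ideal.map_mul, mul_comm (algebraMap R S s)]
    exact Ideal.mul_mem_mul h (Ideal.mem_map_of_mem _ hsJ)
  rw [Ideal.map_span, Set.image_singleton, Ideal.mem_span_singleton'] at hmem
  obtain ⟨c, hc⟩ := hmem
  obtain ⟨r, hr⟩ := intNorm_add_mul hp0 (algebraMap R S s * y) c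
  rw [show algebraMap R S s * y + algebraMap R S p * c = algebraMap R S s * x by linear_combination hc,
    map_mul, map_mul] at hr
  have hns : Algebra.intNorm R S (algebraMap R S s) ∉ W := fun hmem => by
    have h1 : Algebra.intNorm R S (algebraMap R S s) = s ^ Module.finrank (FractionRing R) (FractionRing S) := by
      apply IsFractionRing.injective R (FractionRing R)
      rw [Algebra.algebraMap_intNorm_fractionRing, ← IsScalarTower.algebraMap_apply R S (FractionRing S),
        IsScalarTower.algebraMap_apply R (FractionRing R) (FractionRing S), Algebra.norm_algebraMap, map_pow]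
    exact hsW (Ideal.IsPrime.mem_of_pow_mem inferInstance _ (h1 ▸ hmem))
  have h2 : Algebra.intNorm R S (algebraMap R S s) * (Algebra.intNorm R S x - Algebra.intNorm R S y) ∈ W ^ m := by
    rw [show Algebra.intNorm R S (algebraMap R S s) * (Algebra.intNorm R S x - Algebra.intNorm R S y) = p * r by
      linear_combination hr]
    exact Ideal.mul_mem_right _ _ hp
  exact (Ideal.IsPrime.mul_mem_pow W h2).resolve_left hns

theorem intNorm_one_add_mul {p : R} (hp : p ≠ 0) (c : S) :
    ∃ r : R, Algebra.intNorm R S (1 + algebraMap R S p * c) = 1 + p * Algebra.intTrace R S c + p ^ 2 * r := by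
  classical
  let K := FractionRing R
  let L := FractionRing S
  let E := AlgebraicClosure K
  let f : (L →ₐ[K] E) → E := fun σ => σ (algebraMap S L c)
  have hf : ∀ σ ∈ (Finset.univ : Finset (L →ₐ[K] E)), f σ ∈ (integralClosure R E).toSubring := fun σ _ => by
    have h1 : IsIntegral R c := Algebra.IsIntegral.isIntegral c
    exact (h1.algebraMap (B := L)).map (σ.restrictScalars R)
  obtain ⟨r, hr, hprod⟩ := prod_one_add_mul (integralClosure R E).toSubring Finset.univ f (algebraMap R E p)
    ((integralClosure R E).algebraMap_mem p) hf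
  let N := Algebra.intNorm R S (1 + algebraMap R S p * c)
  let T := Algebra.intTrace R S c
  have hN : algebraMap R E N = ∏ σ : L →ₐ[K] E, (1 + algebraMap R E p * f σ) := by
    rw [IsScalarTower.algebraMap_apply R K E, Algebra.algebraMap_intNorm_fractionRing, Algebra.norm_eq_prod_embeddings]
    refine Finset.prod_congr rfl fun σ _ => ?_
    rw [map_add, map_one, map_mul, map_add, map_one, map_mul, ← IsScalarTower.algebraMap_apply R S L,
      IsScalarTower.algebraMap_apply R K L, AlgHom.commutes, ← IsScalarTower.algebraMap_apply R K E]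
  have hT : algebraMap R E T = ∑ σ : L →ₐ[K] E, f σ := by
    rw [IsScalarTower.algebraMap_apply R K E, Algebra.algebraMap_intTrace_fractionRing, trace_eq_sum_embeddings]
  let q : K := (algebraMap R K N - 1 - algebraMap R K p * algebraMap R K T) / (algebraMap R K p) ^ 2
  have hpK : algebraMap R K p ≠ 0 := (map_ne_zero_iff _ (IsFractionRing.injective R K)).mpr hp
  have hq : algebraMap K E q = r := by
    have hpE : algebraMap R E p ≠ 0 := by
      rw [IsScalarTower.algebraMap_apply R K E]; exact (map_ne_zero _).mpr hpK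
    simp only [q, map_div₀, map_sub, map_mul, map_pow, map_one, ← IsScalarTower.algebraMap_apply R K E]
    rw [hN, hprod, hT, div_eq_iff (pow_ne_zero 2 hpE)]
    ring
  have hqi : IsIntegral R q := by
    rw [← isIntegral_algebraMap_iff (FaithfulSMul.algebraMap_injective K E), hq]
    exact hr
  obtain ⟨r₀, hr₀⟩ := IsIntegrallyClosed.isIntegral_iff.mp hqi
  refine ⟨r₀, IsFractionRing.injective R K ?_⟩
  show algebraMap R K N = algebraMap R K (1 + p * T + p ^ 2 * r₀)
  conv_rhs => simp only [map_add, map_one, map_mul, map_pow]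
  rw [hr₀]
  show _ = _ + _ * ((algebraMap R K N - 1 - algebraMap R K p * algebraMap R K T) / (algebraMap R K p) ^ 2)
  rw [mul_div_cancel₀ _ (pow_ne_zero 2 hpK)]
  ring

/-- Both the norm and the trace of the residue algebra are onto. -/
theorem residual_surjective (W : Ideal R) [W.IsMaximal] (hW : W ≠ ⊥) [Finite (R ⧸ W)]
    (hunr : ∀ Q : Ideal S, Q.IsPrime → Q ≠ ⊥ → Q.LiesOver W → Q.ramificationIdx R = 1) :
    (∀ u : R, u ∉ W → ∃ y : S, Algebra.intNorm R S y - u ∈ W) ∧
      ∀ t : R, ∃ c : S, Algebra.intTrace R S c - t ∈ W := by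
  classical
  obtain ⟨Q, hQm, hQo⟩ := Ideal.exists_maximal_ideal_liesOver_of_isIntegral (S := S) W
  have hQ0 : Q ≠ ⊥ := Ideal.ne_bot_of_liesOver_of_ne_bot hW Q
  have hWS : W.map (algebraMap R S) ≠ ⊥ := Ideal.map_ne_bot_of_ne_bot hW
  obtain ⟨I, hQI, hI⟩ := Ideal.eq_prime_pow_mul_coprime hWS Q
  rw [← Ideal.IsDedekindDomain.ramificationIdx_eq_normalizedFactors_count W Q hWS,
    hunr Q inferInstance hQ0 hQo, pow_one] at hI
  have hco : IsCoprime Q I := Ideal.isCoprime_iff_sup_eq.mpr hQI
  let : Algebra (R ⧸ W) (S ⧸ I) :=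
    Ideal.Quotient.algebraQuotientOfLEComap (Ideal.map_le_iff_le_comap.mp
      (Ideal.dvd_iff_le.mp ⟨_, hI.trans (mul_comm _ _)⟩))
  have : IsScalarTower R (R ⧸ W) (S ⧸ I) := .of_algebraMap_eq' rfl
  have : Module.Finite (R ⧸ W) (S ⧸ I) := .of_restrictScalars_finite R _ _
  have : Module.Finite (R ⧸ W) (S ⧸ Q) := .of_restrictScalars_finite R _ _
  have : Finite (S ⧸ Q) := Module.finite_of_finite (R ⧸ W)
  let e : (S ⧸ W.map (algebraMap R S)) ≃ₐ[R ⧸ W] ((S ⧸ Q) × S ⧸ I) :=
    { __ := (Ideal.quotEquivOfEq hI).trans (Ideal.quotientMulEquivQuotientProd Q I hco),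
      commutes' := Quotient.ind fun _ ↦ rfl }
  constructor
  · intro u hu
    obtain ⟨x, hx⟩ := FiniteField.norm_surjective (R ⧸ W) (S ⧸ Q) (Ideal.Quotient.mk W u)
    obtain ⟨y, hy⟩ := Ideal.Quotient.mk_surjective (e.symm (x, 1))
    refine ⟨y, ?_⟩
    rw [← Ideal.Quotient.eq_zero_iff_mem, map_sub, ← norm_quotient_eq W, hy, sub_eq_zero,
      ← Algebra.norm_eq_of_algEquiv e, AlgEquiv.apply_symm_apply, ← hx, Algebra.norm_apply]
    have : Algebra.lmul (R ⧸ W) ((S ⧸ Q) × S ⧸ I) (x, 1) = LinearMap.prodMap (Algebra.lmul (R ⧸ W) (S ⧸ Q) x) 1 := by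
      apply LinearMap.ext; intro z; ext <;> simp [Algebra.coe_lmul_eq_mul]
    rw [this, LinearMap.det_prodMap, map_one, mul_one, ← Algebra.norm_apply]
  · intro t
    obtain ⟨x, hx⟩ := Algebra.trace_surjective (R ⧸ W) (S ⧸ Q) (Ideal.Quotient.mk W t)
    obtain ⟨c, hc⟩ := Ideal.Quotient.mk_surjective (e.symm (x, 0))
    refine ⟨c, ?_⟩
    rw [← Ideal.Quotient.eq_zero_iff_mem, map_sub, ← Algebra.trace_quotient_eq_of_isDedekindDomain, hc, sub_eq_zero,
      ← Algebra.trace_eq_of_algEquiv e, AlgEquiv.apply_symm_apply, Algebra.trace_prod_apply, map_zero, add_zero, hx]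

theorem exists_norm_sub_mem_pow (W : Ideal R) [W.IsMaximal] (hW : W ≠ ⊥) [Finite (R ⧸ W)]
    (hunr : ∀ Q : Ideal S, Q.IsPrime → Q ≠ ⊥ → Q.LiesOver W → Q.ramificationIdx R = 1)
    (u : R) (hu : u ∉ W) (m : ℕ) : ∃ y : S, Algebra.intNorm R S y - u ∈ W ^ m := by
  obtain ⟨hN, hT⟩ := residual_surjective (S := S) W hW hunr
  induction m with
  | zero => exact ⟨1, by simp⟩
  | succ m ih =>
    rcases Nat.eq_zero_or_pos m with rfl | hm
    · rw [zero_add, pow_one]; exact hN u hu
    obtain ⟨y, hy⟩ := ih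
    obtain ⟨p, hp, hp'⟩ := SetLike.exists_of_lt (Ideal.pow_succ_lt_pow hW m)
    have hp0 : p ≠ 0 := fun h => hp' (h ▸ Submodule.zero_mem _)
    have hspan : W ^ m = Ideal.span {p} ⊔ W ^ (m + 1) := by
      haveI : W.IsPrime := inferInstance
      exact Ideal.eq_prime_pow_of_succ_lt_of_le hW
        (lt_of_le_of_ne le_sup_right fun h => hp' (h ▸ Ideal.mem_sup_left (Ideal.mem_span_singleton_self p)))
        (sup_le ((Ideal.span_singleton_le_iff_mem _).mpr hp) (Ideal.pow_le_pow_right m.le_succ)) |>.symm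
    have hny : Algebra.intNorm R S y ∉ W := fun h => hu (by
      have := W.sub_mem h (Ideal.pow_le_self (Nat.one_le_iff_ne_zero.mp hm) hy)
      rwa [sub_sub_cancel] at this)
    obtain ⟨z, hz⟩ := hspan ▸ (W ^ m).neg_mem hy |> fun h => Submodule.mem_sup.mp h
    obtain ⟨hz, w, hw, hzw⟩ := hz
    obtain ⟨t, rfl⟩ := Ideal.mem_span_singleton'.mp hz
    obtain ⟨i, hi⟩ := Ideal.Quotient.exists_inv (I := W) (a := Ideal.Quotient.mk W (Algebra.intNorm R S y))
      (by rwa [ne_eq, Ideal.Quotient.eq_zero_iff_mem])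
    obtain ⟨i, rfl⟩ := Ideal.Quotient.mk_surjective i
    obtain ⟨c, hc⟩ := hT (t * i)
    obtain ⟨r, hr⟩ := intNorm_one_add_mul (S := S) hp0 c
    refine ⟨y * (1 + algebraMap R S p * c), ?_⟩
    rw [map_mul, hr]
    have h1 : Algebra.intNorm R S y * i - 1 ∈ W := by
      rw [← Ideal.Quotient.eq_zero_iff_mem, map_sub, map_mul, hi, map_one, sub_self]
    have h2 : Algebra.intNorm R S y * Algebra.intTrace R S c - t ∈ W := by
      have := W.add_mem (W.mul_mem_left (Algebra.intNorm R S y) hc) (W.mul_mem_left t h1)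
      convert this using 1
      ring
    have key : Algebra.intNorm R S y * (1 + p * Algebra.intTrace R S c + p ^ 2 * r) - u =
        p * (Algebra.intNorm R S y * Algebra.intTrace R S c - t) - w + p * p * (Algebra.intNorm R S y * r) := by
      linear_combination hzw
    rw [key]
    refine (W ^ (m + 1)).add_mem ((W ^ (m + 1)).sub_mem ?_ hw) (Ideal.mul_mem_right _ _ ?_)
    · rw [pow_succ]; exact Ideal.mul_mem_mul hp h2
    · exact Ideal.pow_le_pow_right (Nat.add_le_add_left hm m) (by rw [pow_add]; exact Ideal.mul_mem_mul hp hp)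

/-- Simultaneous approximation by norms at finitely many unramified primes. -/
theorem exists_norm_sub_mem_finset {ι : Type*} [Finite ι] (W : ι → Ideal R) [∀ i, (W i).IsMaximal]
    (hinj : Function.Injective W) (hW : ∀ i, W i ≠ ⊥) [∀ i, Finite (R ⧸ W i)]
    (hunr : ∀ i, ∀ Q : Ideal S, Q.IsPrime → Q ≠ ⊥ → Q.LiesOver (W i) → Q.ramificationIdx R = 1)
    (u : R) (hu : ∀ i, u ∉ W i) (m : ι → ℕ) : ∃ y : S, ∀ i, Algebra.intNorm R S y - u ∈ W i ^ m i := by
  choose y hy using fun i => exists_norm_sub_mem_pow (S := S) (W i) (hW i) (hunr i) u (hu i) (m i)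
  have hco : Pairwise (Function.onFun IsCoprime fun i => (W i ^ m i).map (algebraMap R S)) := by
    intro i j hij
    have h : IsCoprime (W i ^ m i) (W j ^ m j) := (Ideal.isCoprime_iff_sup_eq.mpr
      (Ideal.IsMaximal.coprime_of_ne inferInstance inferInstance (fun h => hij (hinj h)))).pow
    exact h.map (Ideal.mapHom (algebraMap R S))
  obtain ⟨z, hz⟩ := Ideal.exists_forall_sub_mem_ideal hco y
  refine ⟨z, fun i => ?_⟩
  have := (W i ^ m i).add_mem (intNorm_sub_mem (W i) (hW i) (m i) (hz i)) (hy i)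
  rwa [sub_add_sub_cancel] at this

end Groth.Agent.UnitNormLib
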