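import Mathlib

/-! Reduction of the norm of a finite extension of Dedekind domains modulo a maximal ideal. -/

set_option autoImplicit false
set_option backward.isDefEq.respectTransparency false
set_option backward.isDefEq.respectTransparency.types false

open IsLocalRing IsLocalization.AtPrime Module

namespace Groth.Agent.UnitNormLib

attribute [local instance] Ideal.Quotient.field FractionRing.liftAlgebra FractionRing.isScalarTower_liftAlgebra

variable {R S : Type*} [CommRing R] [CommRing S] [Algebra R S]

theorem norm_quotient_mk [IsLocalRing R] [Module.Free R S] [Module.Finite R S] (x : S) :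
    Algebra.norm (R ⧸ maximalIdeal R) (Ideal.Quotient.mk (Ideal.map (algebraMap R S) (maximalIdeal R)) x) =
      Ideal.Quotient.mk (maximalIdeal R) (Algebra.norm R x) := by
  classical
  let ι := Module.Free.ChooseBasisIndex R S
  let b : Module.Basis ι R S := Module.Free.chooseBasis R S
  rw [Algebra.norm_eq_matrix_det b, Algebra.norm_eq_matrix_det (IsLocalRing.basisQuotient b), RingHom.map_det]
  congr 1
  ext i j
  simp only [Algebra.leftMulMatrix_apply, Algebra.coe_lmul_eq_mul, LinearMap.toMatrix_apply,
    IsLocalRing.basisQuotient_apply, LinearMap.mul_apply', RingHom.mapMatrix_apply, Matrix.map_apply, ← map_mul,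
    IsLocalRing.basisQuotient_repr]

open nonZeroDivisors in
theorem norm_quotient_eq (p : Ideal R) [p.IsMaximal] [IsDedekindDomain R] [IsDomain S]
    [Module.IsTorsionFree R S] [Module.Finite R S] [IsIntegrallyClosed S] (x : S)
    [FiniteDimensional (FractionRing R) (FractionRing S)] :
    Algebra.norm (R ⧸ p) (Ideal.Quotient.mk (p.map (algebraMap R S)) x) =
      Ideal.Quotient.mk p (Algebra.intNorm R S x) := by
  let Rₚ := Localization.AtPrime p
  let Sₚ := Localization (Algebra.algebraMapSubmonoid S p.primeCompl)
  let : Algebra Rₚ Sₚ := localizationAlgebra p.primeCompl S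
  have : IsScalarTower R Rₚ Sₚ := IsScalarTower.of_algebraMap_eq'
    (by rw [RingHom.algebraMap_toAlgebra, IsLocalization.map_comp, ← IsScalarTower.algebraMap_eq])
  have : IsLocalization (Submonoid.map (algebraMap R S) (Ideal.primeCompl p)) Sₚ :=
    inferInstanceAs (IsLocalization (Algebra.algebraMapSubmonoid S p.primeCompl) Sₚ)
  have e : Algebra.algebraMapSubmonoid S p.primeCompl ≤ S⁰ :=
    Submonoid.map_le_of_le_comap _ <| p.primeCompl_le_nonZeroDivisors.trans
      (nonZeroDivisors_le_comap_nonZeroDivisors_of_injective _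
        (FaithfulSMul.algebraMap_injective _ _))
  have : IsDomain Sₚ := IsLocalization.isDomain_of_le_nonZeroDivisors _ e
  have : IsTorsionFree Rₚ Sₚ := by
    rw [isTorsionFree_iff_algebraMap_injective, RingHom.injective_iff_ker_eq_bot,
      RingHom.ker_eq_bot_iff_eq_zero]
    simp
  have : Module.Finite Rₚ Sₚ := .of_isLocalization R S p.primeCompl
  have : IsIntegrallyClosed Sₚ := isIntegrallyClosed_of_isLocalization _ _ e
  have : IsPrincipalIdealRing Rₚ := by
    by_cases hp : p = ⊥
    · infer_instance
    · have := (IsDedekindDomain.isDedekindDomainDvr R).2 p hp inferInstance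
      infer_instance
  have : Module.Free Rₚ Sₚ := Module.free_of_finite_type_torsion_free'
  apply (equivQuotMaximalIdeal p Rₚ).injective
  rw [Algebra.norm_eq_of_equiv_equiv (equivQuotMaximalIdeal p Rₚ) (equivQuotientMapMaximalIdeal S p Rₚ Sₚ)]
  swap
  · ext x
    show Ideal.Quotient.mk _ (algebraMap Rₚ Sₚ (algebraMap R Rₚ x)) = Ideal.Quotient.mk _ (algebraMap S Sₚ (algebraMap R S x))
    rw [← IsScalarTower.algebraMap_apply, ← IsScalarTower.algebraMap_apply]
  rw [RingEquiv.apply_symm_apply]
  have h1 : equivQuotientMapMaximalIdeal S p Rₚ Sₚ (Ideal.Quotient.mk _ x) =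
      Ideal.Quotient.mk _ (algebraMap S Sₚ x) := rfl
  rw [h1, norm_quotient_mk, ← Algebra.intNorm_eq_norm,
    ← Algebra.intNorm_eq_of_isLocalization p.primeCompl (Aₘ := Rₚ) (Bₘ := Sₚ) x]
  rfl

end Groth.Agent.UnitNormLib
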